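import Cfsg.Agent.Lib.Spor.HSPerm.Cert
import Cfsg.Agent.Lib.Spor.HSPerm.Data
import Cfsg.Agent.Lib.Spor.Leech.Census.HSSimple

/-!
The Higman-Sims group as a permutation group of one hundred lattice vectors with explicit generators.
-/

set_option autoImplicit false
set_option maxRecDepth 20000

namespace CfsgLib.Spor.HSPerm

open Cfsg MulAction CfsgLib.Spor.Leech CfsgLib.Spor.Leech.Census32

/-- The stabilizer of the standard pair. -/
abbrev G0 : Subgroup Co0 := stabilizer Co0 u3L ⊓ stabilizer Co0 w0L

theorem smul_mem {g : Co0} (hg : g ∈ G0) {y : leechLattice} (hy : y ∈ pickL testsA) : g • y ∈ pickL testsA := by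
  refine smul_mem_pickL (fun t ht => ?_) hy
  simp only [testsA, List.mem_cons, List.not_mem_nil, or_false] at ht
  rcases ht with rfl | rfl
  exacts [hg.1, hg.2]

theorem gen_mem (k : Fin 4) : hsElts.getD k.1 1 ∈ G0 := by
  have hlen : hsElts.length = 4 := by simp [hsElts, hsWords]
  rw [List.getD_eq_getElem _ _ (by rw [hlen]; exact k.2)]
  have h := hsElts_fix _ (List.getElem_mem (by rw [hlen]; exact k.2 : k.1 < hsElts.length))
  exact ⟨h (u3L, 24) (by simp), h (w0L, -24) (by simp)⟩

/-- The packed vector of a point. -/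
def code (i : ℕ) : ℕ := vecCodes.getD i 0

theorem code_facts : code 0 = enc (v1L : GolayPt → ℤ) ∧ vecCodes.length = 100 ∧ vecCodes.Nodup := by
  decide +kernel

theorem tree_check : ((List.range 100).all fun i => decide (i = 0) ||
    let e := vecTree.getD i (0, 0)
    decide (e.1 < i) && decide (e.2 < 4) &&
      Nat.beq (step (hsMats.getD e.2 oneMat) (code e.1)) (code i)) = true := by
  decide +kernel

theorem gen_check : ((List.range 4).all fun k => (List.range 100).all fun i => decide (look eltRows k i < 100) &&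
    Nat.beq (step (hsMats.getD k oneMat) (code i)) (code (look eltRows k i))) = true := by
  decide +kernel

theorem exists_vec : ∀ i < 100, ∃ y ∈ pickL testsA, enc (y : GolayPt → ℤ) = code i := by
  intro i
  induction i using Nat.strong_induction_on with
  | _ i ih =>
    intro hi
    have h := tree_check
    simp only [List.all_eq_true, List.mem_range, Bool.or_eq_true, Bool.and_eq_true, decide_eq_true_eq] at h
    by_cases h0 : i = 0
    · exact ⟨v1L, memA, by rw [h0, code_facts.1]⟩
    · obtain ⟨⟨hp, hk⟩, he⟩ := (h i hi).resolve_left h0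
      obtain ⟨y, hy, ey⟩ := ih _ hp (by omega)
      refine ⟨_, smul_mem (gen_mem ⟨_, hk⟩) hy, ?_⟩
      rw [← step_enc (isMat_hs _) (by rw [hy.1]; norm_num), ey]
      exact Nat.eq_of_beq_eq_true he

/-- The vector of a point. -/
noncomputable def vec (i : Fin 100) : ↥(pickL testsA) :=
  ⟨(exists_vec i.1 i.2).choose, (exists_vec i.1 i.2).choose_spec.1⟩

theorem enc_vec (i : Fin 100) : enc ((vec i).1 : GolayPt → ℤ) = code i.1 := (exists_vec i.1 i.2).choose_spec.2

theorem small_of_mem {y : leechLattice} (hy : y ∈ pickL testsA) : Small (y : GolayPt → ℤ) :=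
  small_of_norm (by rw [hy.1]; norm_num)

theorem vec_eq {y : ↥(pickL testsA)} {i : Fin 100} (h : enc (y.1 : GolayPt → ℤ) = code i.1) : y = vec i :=
  Subtype.ext (Subtype.ext (enc_inj (small_of_mem y.2) (small_of_mem (vec i).2) (h.trans (enc_vec i).symm)))

theorem vec_bijective : Function.Bijective vec := by
  have hf : (pickL testsA).Finite := Set.finite_of_ncard_pos (by rw [ncardA]; norm_num)
  have := hf.to_subtype
  have hinj : Function.Injective vec := fun i j e => by
    have h := congrArg (fun y : ↥(pickL testsA) => enc (y.1 : GolayPt → ℤ)) e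
    simp only [enc_vec, code] at h
    obtain ⟨-, hl, hnd⟩ := code_facts
    rw [List.getD_eq_getElem _ _ (by rw [hl]; exact i.2), List.getD_eq_getElem _ _ (by rw [hl]; exact j.2),
      hnd.getElem_inj_iff] at h
    exact Fin.ext h
  refine (Nat.bijective_iff_injective_and_card vec).2 ⟨hinj, ?_⟩
  rw [Nat.card_fin, Nat.card_coe_set_eq, ncardA]

/-- The vectors as points. -/
noncomputable def vecEquiv : Fin 100 ≃ ↥(pickL testsA) := Equiv.ofBijective vec vec_bijective

/-- The image of a point. -/
noncomputable def act (g : ↥G0) (i : Fin 100) : Fin 100 := vecEquiv.symm ⟨g.1 • (vec i).1, smul_mem g.2 (vec i).2⟩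

theorem vec_act (g : ↥G0) (i : Fin 100) : (vec (act g i)).1 = g.1 • (vec i).1 :=
  congrArg Subtype.val (vecEquiv.apply_symm_apply _)

theorem act_one (i : Fin 100) : act 1 i = i :=
  vec_bijective.1 (Subtype.ext (by rw [vec_act, Subgroup.coe_one, one_smul]))

theorem act_mul (g h : ↥G0) (i : Fin 100) : act (g * h) i = act g (act h i) :=
  vec_bijective.1 (Subtype.ext (by rw [vec_act, vec_act, vec_act, Subgroup.coe_mul, mul_smul]))

/-- The action on the points. -/
noncomputable def rho : ↥G0 →* Equiv.Perm (Fin 100) where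
  toFun g :=
    { toFun := act g
      invFun := act g⁻¹
      left_inv := fun i => by rw [← act_mul, inv_mul_cancel, act_one]
      right_inv := fun i => by rw [← act_mul, mul_inv_cancel, act_one] }
  map_one' := Equiv.ext act_one
  map_mul' g h := Equiv.ext (act_mul g h)

/-- The permutation group. -/
noncomputable def P : Subgroup (Equiv.Perm (Fin 100)) := rho.range

theorem gen_matches : ∀ k < 4, ∃ g ∈ P, Matches g eltRows k := by
  intro k hk
  refine ⟨rho ⟨_, gen_mem ⟨k, hk⟩⟩, ⟨_, rfl⟩, fun i => ?_⟩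
  have h := gen_check
  simp only [List.all_eq_true, List.mem_range, Bool.and_eq_true, decide_eq_true_eq] at h
  obtain ⟨hlt, he⟩ := h k hk i.1 i.2
  show (act _ i).1 = _
  have e : act ⟨_, gen_mem ⟨k, hk⟩⟩ i = ⟨look eltRows k i.1, hlt⟩ := by
    refine vec_bijective.1 (vec_eq ?_)
    rw [vec_act, ← step_enc (isMat_hs _) (by rw [(vec i).2.1]; norm_num), enc_vec]
    exact Nat.eq_of_beq_eq_true he
  rw [e]

theorem elt_ops : opsOK eltRows eltOps 4 = true := by decide +kernel

theorem elt_count : 4 + eltOps.length = 1014 := by decide +kernel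

theorem elt_mem {n : ℕ} (hn : n < 1014) : ∃ g ∈ P, Matches g eltRows n :=
  exists_of_ops elt_ops P gen_matches n (by rw [elt_count]; exact hn)

theorem chain_check : chainOK eltRows 1014 [] basePts transIdx = true ∧
    (transIdx.map List.length).prod = 44352000 := by
  decide +kernel

theorem rho_injective : Function.Injective rho := by
  haveI := simple_hs_base
  rw [← MonoidHom.ker_eq_bot_iff]
  refine rho.normal_ker.eq_bot_or_eq_top.resolve_right fun h => ?_
  have hne : ∃ i < 100, look eltRows 0 i ≠ i := ⟨0, by norm_num, by decide +kernel⟩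
  obtain ⟨i, hi, hne⟩ := hne
  obtain ⟨_, ⟨g, rfl⟩, hg⟩ := gen_matches 0 (by norm_num)
  have e : rho g = 1 := MonoidHom.mem_ker.1 (h ▸ Subgroup.mem_top g)
  refine hne ?_
  rw [← hg ⟨i, hi⟩, e]
  rfl

/-- The stabilizer is the permutation group. -/
noncomputable def equivP : ↥G0 ≃* ↥P := MonoidHom.ofInjective rho_injective

theorem card_P : Nat.card ↥P = 44352000 := by rw [← Nat.card_congr equivP.toEquiv, card_hs_base]

/-- The group spanned by the generators. -/
noncomputable def genSet : Set (Equiv.Perm (Fin 100)) := {g | g ∈ P ∧ ∃ k < 4, Matches g eltRows k}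

theorem closure_genSet : Subgroup.closure genSet = P := by
  refine Subgroup.eq_of_le_of_card_ge ((Subgroup.closure_le _).2 fun g hg => hg.1) ?_
  have hmem : ∀ n < 1014, ∃ g ∈ Subgroup.closure genSet, Matches g eltRows n := fun n hn =>
    exists_of_ops elt_ops _ (fun k hk => by
      obtain ⟨g, hg, hm⟩ := gen_matches k hk
      exact ⟨g, Subgroup.subset_closure ⟨hg, k, hk, hm⟩, hm⟩) n (by rw [elt_count]; exact hn)
  have := card_chain hmem chain_check.1
  rw [chain_check.2] at this
  rw [card_P]
  exact le_trans (Nat.le_mul_of_pos_right _ Nat.card_pos) this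

theorem eq_of_base {g h : Equiv.Perm (Fin 100)} (hg : g ∈ P) (hh : h ∈ P)
    (e : ∀ b ∈ basePts, g (pnt b) = h (pnt b)) : g = h := by
  have hc := card_chain (H := P) (fun n hn => elt_mem hn) chain_check.1
  rw [chain_check.2, card_P] at hc
  have h1 : Nat.card ↥(fixSub P basePts.reverse) = 1 := by
    have := Nat.card_pos (α := ↥(fixSub P basePts.reverse))
    omega
  have hbot := Subgroup.card_eq_one.1 h1
  have hmem : h⁻¹ * g ∈ fixSub P basePts.reverse := mem_fixSub.2 ⟨mul_mem (inv_mem hh) hg, fun c hc => by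
    rw [Equiv.Perm.mul_apply, e c (List.mem_reverse.1 hc), ← Equiv.Perm.mul_apply, inv_mul_cancel]
    rfl⟩
  rw [hbot, Subgroup.mem_bot, inv_mul_eq_one] at hmem
  exact hmem.symm

/-! ### The frozen group -/

theorem leech_vecs : sqNorm (Spor.leechV : GolayPt → ℤ) = 48 ∧
    sqNorm ((-(Spor.leechV + Spor.leechU') : leechLattice) : GolayPt → ℤ) = 48 ∧
    dotInt (Spor.leechV : GolayPt → ℤ) ((-(Spor.leechV + Spor.leechU') : leechLattice) : GolayPt → ℤ) = -32 := by
  decide +kernel

theorem stab_hs : (stabilizer Co0 Spor.leechV ⊓ stabilizer Co0 (-(Spor.leechV + Spor.leechU')) : Subgroup Co0) =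
    Spor.HS.subgroupOf Co0 := by
  have hu : Spor.leechU' = 0 - Spor.leechV - -(Spor.leechV + Spor.leechU') := by abel
  have hw : -(Spor.leechV + Spor.leechU') = 0 - Spor.leechV - Spor.leechU' := by abel
  have hz : ∀ g : Co0, g • (0 : leechLattice) = 0 := fun g => by
    have := co0_sub g Spor.leechV Spor.leechV
    rwa [sub_self, sub_self] at this
  ext g
  simp only [Subgroup.mem_inf, Subgroup.mem_subgroupOf, Spor.HS, Spor.Co3, mem_stabilizer_iff]
  constructor
  · rintro ⟨a, b⟩
    refine ⟨⟨g.2, a⟩, ?_⟩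
    show g • Spor.leechU' = Spor.leechU'
    calc g • Spor.leechU' = g • (0 - Spor.leechV - -(Spor.leechV + Spor.leechU')) := congrArg (g • ·) hu
      _ = Spor.leechU' := by rw [co0_sub, co0_sub, hz, a, b, ← hu]
  · rintro ⟨⟨-, a⟩, b⟩
    replace a : g • Spor.leechV = Spor.leechV := a
    replace b : g • Spor.leechU' = Spor.leechU' := b
    exact ⟨a, by rw [hw, co0_sub, co0_sub, hz, a, b]⟩

theorem nonempty_equiv_HS : Nonempty (↥Spor.HS ≃* ↥P) := by
  obtain ⟨hv, hw, hd⟩ := leech_vecs
  obtain ⟨g, a, b⟩ := normal_hs hv hw hd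
  have hle : Spor.HS ≤ Co0 := fun x hx => hx.1.1
  exact ⟨((Subgroup.subgroupOfEquivOfLe hle).symm.trans (MulEquiv.subgroupCongr stab_hs.symm)).trans
    ((pairStabEquiv a b).trans equivP)⟩

end CfsgLib.Spor.HSPerm
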