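import Mathlib

/-!
Packed permutations of one hundred points, products of earlier elements, and the order of a group given
by orbits along a base.
-/

set_option autoImplicit false
set_option maxRecDepth 20000

namespace CfsgLib.Spor.HSPerm

open MulAction

/-- The image of a point under the `n`th packed permutation. -/
def look (R : List ℕ) (n i : ℕ) : ℕ := (R.getD (n / 25) 0 >>> (700 * (n % 25) + 7 * i)) &&& 127

/-- A permutation is the `n`th packed one. -/
def Matches (g : Equiv.Perm (Fin 100)) (R : List ℕ) (n : ℕ) : Prop := ∀ i : Fin 100, (g i).1 = look R n i.1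

theorem Matches.unique {g h : Equiv.Perm (Fin 100)} {R : List ℕ} {n : ℕ} (hg : Matches g R n)
    (hh : Matches h R n) : g = h :=
  Equiv.ext fun i => Fin.ext ((hg i).trans (hh i).symm)

/-- Each further packed permutation is the product of two earlier ones. -/
def opsOK (R : List ℕ) (ops : List (ℕ × ℕ)) (s : ℕ) : Bool :=
  (List.range ops.length).all fun k =>
    let e := ops.getD k (0, 0)
    decide (e.1 < s + k) && decide (e.2 < s + k) &&
      (List.range 100).all fun i => look R (s + k) i == look R e.1 (look R e.2 i)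

theorem exists_of_ops {R : List ℕ} {ops : List (ℕ × ℕ)} {s : ℕ} (hok : opsOK R ops s = true)
    (H : Subgroup (Equiv.Perm (Fin 100))) (hseed : ∀ k < s, ∃ g ∈ H, Matches g R k) :
    ∀ n < s + ops.length, ∃ g ∈ H, Matches g R n := by
  simp only [opsOK, List.all_eq_true, List.mem_range, Bool.and_eq_true, decide_eq_true_eq, beq_iff_eq] at hok
  intro n
  induction n using Nat.strong_induction_on with
  | _ n ih =>
    intro hn
    by_cases hs : n < s
    · exact hseed n hs
    · obtain ⟨k, rfl⟩ : ∃ k, n = s + k := ⟨n - s, by omega⟩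
      obtain ⟨⟨ha, hb⟩, he⟩ := hok k (by omega)
      obtain ⟨a, haH, hA⟩ := ih _ ha (by omega)
      obtain ⟨b, hbH, hB⟩ := ih _ hb (by omega)
      refine ⟨a * b, mul_mem haH hbH, fun i => ?_⟩
      rw [Equiv.Perm.mul_apply, hA, hB, he i.1 i.2]

/-- A point from a number. -/
def pnt (b : ℕ) : Fin 100 := ⟨b % 100, Nat.mod_lt _ (by norm_num)⟩

/-- The orbits along a base: each listed element fixes the earlier base points, and the images of the
current one are distinct. -/
def chainOK (R : List ℕ) (len : ℕ) : List ℕ → List ℕ → List (List ℕ) → Bool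
  | fixed, b :: bs, T :: Ts => decide (b < 100) && decide ((T.map fun n => look R n b).Nodup) &&
      (T.all fun n => decide (n < len) && fixed.all fun c => look R n c == c) &&
      chainOK R len (b :: fixed) bs Ts
  | _, [], [] => true
  | _, _, _ => false

/-- The elements of a group fixing some points. -/
def fixSub (H : Subgroup (Equiv.Perm (Fin 100))) (l : List ℕ) : Subgroup (Equiv.Perm (Fin 100)) where
  carrier := {g | g ∈ H ∧ ∀ c ∈ l, g (pnt c) = pnt c}
  one_mem' := ⟨H.one_mem, fun _ _ => rfl⟩
  mul_mem' := fun {g h} hg hh =>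
    ⟨H.mul_mem hg.1 hh.1, fun c hc => by rw [Equiv.Perm.mul_apply, hh.2 c hc, hg.2 c hc]⟩
  inv_mem' := fun {g} hg => ⟨H.inv_mem hg.1, fun c hc => Equiv.Perm.inv_eq_iff_eq.2 (hg.2 c hc).symm⟩

theorem mem_fixSub {H : Subgroup (Equiv.Perm (Fin 100))} {l : List ℕ} {g : Equiv.Perm (Fin 100)} :
    g ∈ fixSub H l ↔ g ∈ H ∧ ∀ c ∈ l, g (pnt c) = pnt c := Iff.rfl

theorem count_chain {R : List ℕ} {len : ℕ} {H : Subgroup (Equiv.Perm (Fin 100))}
    (hmem : ∀ n < len, ∃ g ∈ H, Matches g R n) : ∀ (bs : List ℕ) (Ts : List (List ℕ)) (fixed : List ℕ),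
    (∀ c ∈ fixed, c < 100) → chainOK R len fixed bs Ts = true →
      (Ts.map List.length).prod * Nat.card ↥(fixSub H (bs.reverse ++ fixed)) ≤ Nat.card ↥(fixSub H fixed)
  | [], [], fixed, _, _ => by simp
  | [], _ :: _, _, _, h => by simp [chainOK] at h
  | _ :: _, [], _, _, h => by simp [chainOK] at h
  | b :: bs, T :: Ts, fixed, hf, h => by
    simp only [chainOK, Bool.and_eq_true, decide_eq_true_eq, List.all_eq_true, beq_iff_eq] at h
    obtain ⟨⟨⟨hb, hnd⟩, hT⟩, hrest⟩ := h
    have ih := count_chain hmem bs Ts (b :: fixed) (by simpa [hb] using hf) hrest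
    have hpb : ∀ {c}, c < 100 → (pnt c).1 = c := fun hc => Nat.mod_eq_of_lt hc
    have hsub : ∀ n ∈ T, ∃ g ∈ fixSub H fixed, Matches g R n := fun n hn => by
      obtain ⟨g, hg, hm⟩ := hmem n (hT n hn).1
      refine ⟨g, mem_fixSub.2 ⟨hg, fun c hc => Fin.ext ?_⟩, hm⟩
      rw [hm, hpb (hf c hc)]
      exact (hT n hn).2 c hc
    have horb : T.length ≤ Nat.card ↥(orbit (fixSub H fixed) (pnt b)) := by
      classical
      let f : Fin T.length → ↥(orbit (fixSub H fixed) (pnt b)) := fun k =>
        ⟨(hsub _ (T.get_mem k)).choose (pnt b),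
          ⟨⟨_, (hsub _ (T.get_mem k)).choose_spec.1⟩, rfl⟩⟩
      have hv : ∀ k, ((f k).1).1 = look R (T.get k) b := fun k => by
        show ((hsub _ (T.get_mem k)).choose (pnt b)).1 = _
        rw [(hsub _ (T.get_mem k)).choose_spec.2, hpb hb]
      have hinj : Function.Injective f := fun k k' e => by
        have := congrArg (fun z => (z.1).1) e
        simp only [hv] at this
        exact Fin.ext ((hnd.getElem_inj_iff (i := k.1) (j := k'.1)
          (hi := by simp) (hj := by simp)).1 (by simpa using this))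
      have := Nat.card_le_card_of_injective f hinj
      rwa [Nat.card_fin] at this
    have hstab : Nat.card ↥(stabilizer (fixSub H fixed) (pnt b)) = Nat.card ↥(fixSub H (b :: fixed)) := by
      refine Nat.card_congr
        { toFun := fun g => ⟨g.1.1, mem_fixSub.2 ⟨g.1.2.1, fun c hc => ?_⟩⟩
          invFun := fun g => ⟨⟨g.1, g.2.1, fun c hc => g.2.2 c (List.mem_cons_of_mem _ hc)⟩,
            g.2.2 b List.mem_cons_self⟩
          left_inv := fun g => rfl
          right_inv := fun g => rfl }
      rcases List.mem_cons.1 hc with rfl | hc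
      · exact g.2
      · exact g.1.2.2 c hc
    have hos : Nat.card ↥(fixSub H fixed) =
        Nat.card ↥(orbit (fixSub H fixed) (pnt b)) * Nat.card ↥(stabilizer (fixSub H fixed) (pnt b)) := by
      rw [← Nat.card_prod]
      exact (Nat.card_congr (orbitProdStabilizerEquivGroup (fixSub H fixed) (pnt b))).symm
    rw [hos, hstab, List.map_cons, List.prod_cons, List.reverse_cons, List.append_assoc, List.singleton_append,
      mul_assoc]
    exact Nat.mul_le_mul horb ih

theorem card_chain {R : List ℕ} {len : ℕ} {H : Subgroup (Equiv.Perm (Fin 100))}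
    (hmem : ∀ n < len, ∃ g ∈ H, Matches g R n) {bs : List ℕ} {Ts : List (List ℕ)}
    (h : chainOK R len [] bs Ts = true) :
    (Ts.map List.length).prod * Nat.card ↥(fixSub H bs.reverse) ≤ Nat.card ↥H := by
  have e : fixSub H [] = H := by ext g; simp [mem_fixSub]
  have := count_chain hmem bs Ts [] (by simp) h
  rwa [List.append_nil, e] at this

end CfsgLib.Spor.HSPerm
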