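import Cfsg.Agent.Lib.Spor.HSPerm.Num

/-!
Closure of the class of involutions.
-/

set_option autoImplicit false
set_option maxRecDepth 20000

namespace CfsgLib.Spor.HSPerm

theorem rep_check : ((List.range 525).all fun m => decide (m = 0) ||
    let e := repTree.getD m (0, 0)
    decide (e.1 < m) && decide (e.2 < 11) &&
      (List.range 100).all fun b => uN m b == tN (cN e.2 e.1 (tN b))) = true := by
  decide +kernel

theorem rep_root : ((List.range 100).all fun b => uN 0 b == tN b) = true := by decide +kernel

theorem cls_check : ((List.range 525).all fun m => (List.range 11).all fun i =>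
    let v := tabN (11 * m + i)
    decide (v < 5775) && basePts.all fun b => tN (cN i m (tN b)) == cN (v % 11) (v / 11) b) = true := by
  decide +kernel

theorem good_check : ((List.range 525).all fun m =>
    (!(goodN xN m) && !(goodN (itN xN 10) m)) || (List.range 11).any fun j =>
      basePts.all fun b => uN m b == itN xN j (tN (itN xN (11 - j) b))) = true ∧
    goodN xN 0 = true := by
  decide +kernel

end CfsgLib.Spor.HSPerm
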