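import Cfsg.Agent.Lib.Spor.HSPerm.Num

/-!
Generation by the pair, and the named elements.
-/

set_option autoImplicit false
set_option maxRecDepth 20000

namespace CfsgLib.Spor.HSPerm

theorem pair_ops : opsOK pairRows pairOps 2 = true := by decide +kernel

theorem pair_seed : ((List.range 100).all fun b => look pairRows 0 b == xN b && look pairRows 1 b == tN b) = true := by
  decide +kernel

theorem pair_gens : ((List.range 4).all fun k => decide (pairGens.getD k 0 < 2 + pairOps.length) &&
    (List.range 100).all fun b => look pairRows (pairGens.getD k 0) b == look eltRows k b) = true := by
  decide +kernel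

theorem x_facts : (basePts.all fun b => itN xN 11 b == b) = true ∧
    (basePts.any fun b => !(xN b == b)) = true ∧
    (basePts.all fun b => tN (tN b) == b) = true ∧
    (basePts.all fun b => look eltRows yI (xN b) == itN xN 4 (look eltRows yI b)) = true ∧
    (basePts.all fun b => tN (look eltRows dI b) == look eltRows dI (look eltRows zI b)) = true := by
  decide +kernel

end CfsgLib.Spor.HSPerm
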