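import Cfsg.Agent.Lib.Spor.HSPerm.Num

/-!
The outer permutation.
-/

set_option autoImplicit false
set_option maxRecDepth 20000

namespace CfsgLib.Spor.HSPerm

theorem sig_gens : ((List.range 4).all fun k => decide (sigImg.getD k 0 < 1014) &&
    (List.range 100).all fun b => sN (look eltRows k b) == look eltRows (sigImg.getD k 0) (sN b)) = true := by
  decide +kernel

theorem sig_pair : ((List.range 100).all fun b => sN (xN b) == itN xN 10 (sN b) &&
    sN (tN b) == tN (sN b)) = true := by
  decide +kernel

theorem sign_check : ((List.range 4).all fun k => (List.range 100).all fun b =>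
      swapsN (genSwaps.getD k []) b == look eltRows k b) = true ∧
    genSwaps.length = 4 ∧ sigSwaps.length = 47 := by
  decide +kernel

theorem swaps_distinct : (sigSwaps.all fun q => !(q.1.1 == q.2.1)) = true ∧
    (genSwaps.all fun l => (l.length % 2 == 0) && l.all fun q => !(q.1.1 == q.2.1)) = true := by
  decide +kernel

theorem mover_check : look eltRows 129 0 = 0 ∧
    ((List.range 100).all fun b => (b == 0) || !(look eltRows 129 b == b)) = true ∧
    ((transIdx.getD 0 []).all fun n => decide (n < 1014)) = true ∧
    ((List.range 100).all fun b => (transIdx.getD 0 []).any fun n => look eltRows n 0 == b) = true := by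
  decide +kernel

end CfsgLib.Spor.HSPerm
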