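import Cfsg.Agent.Lib.Spor.HSPerm.Num

/-!
The Sylow two-subgroup.
-/

set_option autoImplicit false
set_option maxRecDepth 20000

namespace CfsgLib.Spor.HSPerm

theorem sylIdx_check : ((List.range 512).all fun q => decide (sylIdx.getD q 0 < 1014)) = true ∧
    ((List.range 3).all fun k => decide (sylGens.getD k 0 < 1014)) = true := by
  decide +kernel

theorem syl_closed : ((List.range 3).all fun k => (List.range 512).all fun q =>
    basePts.all fun b => sgN k (qN q b) == qN (sylN k q) b) = true := by
  decide +kernel

theorem syl_nodup : ((List.range 512).map qKey).Nodup := by decide +kernel

theorem syl_special : (basePts.all fun b => qN 0 b == b) = true ∧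
    (basePts.all fun b => qN 103 b == look eltRows zI b) = true ∧
    ((List.range 3).all fun k => basePts.all fun b =>
      sgN k (look eltRows zI b) == look eltRows zI (sgN k b)) = true ∧
    (basePts.any fun b => !(look eltRows zI b == b)) = true := by
  decide +kernel

theorem syl_center : ((List.range 512).all fun q => decide (q = 0) || decide (q = 103) ||
    (List.range 3).any fun k => !(basePts.all fun b => sgN k (qN q b) == qN q (sgN k b))) = true := by
  decide +kernel

theorem syl_tree : ((List.range 512).all fun v => decide (v = 0) || (List.range 3).any fun k =>
    (List.range v).any fun q => sylN k q == v) = true := by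
  decide +kernel

end CfsgLib.Spor.HSPerm
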