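import Cfsg.Agent.Lib.Spor.HSPerm.Cert
import Cfsg.Agent.Lib.Spor.HSPerm.Data
import Cfsg.Agent.Lib.Spor.HSPerm.OutData

/-!
The functions on numbers used by the checks for the automorphisms of the Higman-Sims group.
-/

set_option autoImplicit false

namespace CfsgLib.Spor.HSPerm

/-- The element of order eleven. -/
def xI : ℕ := 466

/-- The involution. -/
def tI : ℕ := 469

/-- The central involution of the Sylow two-subgroup. -/
def zI : ℕ := 472

/-- An element normalizing the subgroup of order eleven. -/
def yI : ℕ := 476

/-- The element conjugating the central involution to the chosen one. -/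
def dI : ℕ := 480

/-- Iterates on numbers. -/
def itN (f : ℕ → ℕ) : ℕ → ℕ → ℕ
  | 0, b => b
  | n + 1, b => f (itN f n b)

/-- The element of order eleven on numbers. -/
def xN (b : ℕ) : ℕ := look eltRows xI b

/-- The involution on numbers. -/
def tN (b : ℕ) : ℕ := look eltRows tI b

/-- A representative on numbers. -/
def uN (m b : ℕ) : ℕ := look repRows m b

/-- The conjugate of a representative by a power of the element of order eleven. -/
def cN (i m b : ℕ) : ℕ := itN xN i (uN m (itN xN (11 - i) b))

/-- The tabulated image of a conjugate. -/
def tabN (k : ℕ) : ℕ := (repTab >>> (13 * k)) &&& 8191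

/-- An element of the Sylow two-subgroup on numbers. -/
def qN (q b : ℕ) : ℕ := look eltRows (sylIdx.getD q 0) b

/-- A generator of the Sylow two-subgroup on numbers. -/
def sgN (k b : ℕ) : ℕ := look eltRows (sylGens.getD k 0) b

/-- The tabulated product in the Sylow two-subgroup. -/
def sylN (k q : ℕ) : ℕ := (sylTab >>> (9 * (512 * k + q))) &&& 511

/-- The key of an element of the Sylow two-subgroup: its images of the base points. -/
def qKey (q : ℕ) : ℕ := basePts.foldl (fun acc b => 128 * acc + qN q b) 0

/-- The tests on a product with the element of order eleven or its inverse. -/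
def goodN (f : ℕ → ℕ) (m : ℕ) : Bool :=
  (basePts.all fun b => itN (fun c => f (uN m c)) 5 b == b) &&
    ((basePts.all fun b => itN (fun c => f (f (uN m c))) 10 b == b) &&
      !(basePts.all fun b => itN (fun c => f (f (uN m c))) 5 b == b))

/-- A product of transpositions. -/
def swapsPerm (l : List (Fin 100 × Fin 100)) : Equiv.Perm (Fin 100) := (l.map fun q => Equiv.swap q.1 q.2).prod

/-- The transpositions of a list applied to a number, the last one first. -/
def swapsN (l : List (Fin 100 × Fin 100)) (b : ℕ) : ℕ :=
  l.foldr (fun q c => if c = q.1.1 then q.2.1 else if c = q.2.1 then q.1.1 else c) b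

theorem swapsPerm_val : ∀ (l : List (Fin 100 × Fin 100)) (b : Fin 100), (swapsPerm l b).1 = swapsN l b.1
  | [], b => rfl
  | q :: l, b => by
    rw [swapsPerm, List.map_cons, List.prod_cons, Equiv.Perm.mul_apply]
    show (Equiv.swap q.1 q.2 (swapsPerm l b)).1 = _
    rw [swapsN, List.foldr_cons, ← swapsN, ← swapsPerm_val l b, Equiv.swap_apply_def]
    simp only [← Fin.ext_iff]
    split_ifs <;> rfl

/-- The outer permutation on numbers. -/
def sN (b : ℕ) : ℕ := swapsN sigSwaps b

end CfsgLib.Spor.HSPerm
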